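import Mathlib.LinearAlgebra.SymmetricAlgebra.Basic
import Mathlib.RingTheory.Localization.Away.Basic
import Mathlib.RingTheory.Localization.Module
import Mathlib.Algebra.Module.LocalizedModule.Away

/-!
# The symmetric algebra along a semilinear map; compatibility with localisation
-/

universe u

noncomputable section

namespace GrothLib.SymAlgX

variable {R R' R'' : Type u} [CommRing R] [CommRing R'] [CommRing R'']
variable {M M' M'' : Type u} [AddCommGroup M] [AddCommGroup M'] [AddCommGroup M'']
variable [Module R M] [Module R' M'] [Module R'' M'']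
variable {B : Type u} [CommRing B]

/-- The structure map of a symmetric algebra. -/
abbrev str (R : Type u) [CommRing R] (M : Type u) [AddCommGroup M] [Module R M] : R →+* SymmetricAlgebra R M :=
  algebraMap R (SymmetricAlgebra R M)

/-- The generators of a symmetric algebra. -/
abbrev gen (R : Type u) [CommRing R] (M : Type u) [AddCommGroup M] [Module R M] : M →ₗ[R] SymmetricAlgebra R M :=
  SymmetricAlgebra.ι R M

/-- Ring maps out of a symmetric algebra agree if they do on the base and on the generators. -/
theorem ringHom_ext {F G : SymmetricAlgebra R M →+* B} (h0 : ∀ r, F (str R M r) = G (str R M r))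
    (h1 : ∀ x, F (gen R M x) = G (gen R M x)) : F = G := by
  refine RingHom.ext fun a => ?_
  induction a using SymmetricAlgebra.induction with
  | algebraMap r => exact h0 r
  | ι x => exact h1 x
  | mul a b ha hb => rw [map_mul, map_mul, ha, hb]
  | add a b ha hb => rw [map_add, map_add, ha, hb]

/-- The ring map given by its values on the base and on the generators. -/
theorem exists_ringHom (σ : R →+* B) (g : M →+ B) (hg : ∀ (r : R) (x : M), g (r • x) = σ r * g x) :
    ∃ F : SymmetricAlgebra R M →+* B, (∀ r, F (str R M r) = σ r) ∧ ∀ x, F (gen R M x) = g x := by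
  letI := σ.toAlgebra
  let gl : M →ₗ[R] B := { toFun := g, map_add' := g.map_add, map_smul' := fun r x => (hg r x).trans (Algebra.smul_def r (g x)).symm }
  exact ⟨(SymmetricAlgebra.lift gl).toRingHom, fun r => (SymmetricAlgebra.lift gl).commutes r,
    fun x => SymmetricAlgebra.lift_ι_apply gl x⟩

theorem exists_symMap {φ : R →+* R'} (f : M →ₛₗ[φ] M') :
    ∃ F : SymmetricAlgebra R M →+* SymmetricAlgebra R' M',
      (∀ r, F (str R M r) = str R' M' (φ r)) ∧ ∀ x, F (gen R M x) = gen R' M' (f x) :=
  exists_ringHom ((str R' M').comp φ) ((gen R' M').toAddMonoidHom.comp f.toAddMonoidHom) (fun r x => by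
    show gen R' M' (f (r • x)) = str R' M' (φ r) * gen R' M' (f x)
    rw [map_smulₛₗ, map_smul, Algebra.smul_def])

/-- The map of symmetric algebras along a semilinear map. -/
def symMap {φ : R →+* R'} (f : M →ₛₗ[φ] M') : SymmetricAlgebra R M →+* SymmetricAlgebra R' M' :=
  (exists_symMap f).choose

theorem symMap_str {φ : R →+* R'} (f : M →ₛₗ[φ] M') (r : R) : symMap f (str R M r) = str R' M' (φ r) :=
  (exists_symMap f).choose_spec.1 r

theorem symMap_gen {φ : R →+* R'} (f : M →ₛₗ[φ] M') (x : M) : symMap f (gen R M x) = gen R' M' (f x) :=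
  (exists_symMap f).choose_spec.2 x

/-- Localisation of the base and the module gives localisation of the symmetric algebra. -/
theorem isLocalization_symMap {φ : R →+* R'} (f : M →ₛₗ[φ] M') (r : R)
    (hR : letI := φ.toAlgebra; IsLocalization.Away r R')
    (hlift : ∀ y : M', ∃ (n : ℕ) (t : M), f t = φ r ^ n • y)
    (hsep : ∀ t : M, f t = 0 → ∃ n : ℕ, r ^ n • t = 0) :
    letI := (symMap f).toAlgebra
    IsLocalization.Away (str R M r) (SymmetricAlgebra R' M') := by
  letI : Algebra R R' := φ.toAlgebra
  haveI := hR
  letI := (symMap f).toAlgebra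
  letI : Module R M' := Module.compHom M' φ
  haveI : IsScalarTower R R' M' := ⟨fun a b c => by
    show (φ a * b) • c = φ a • b • c
    rw [mul_smul]⟩
  let L := Localization.Away (str R M r)
  let i : SymmetricAlgebra R M →+* L := algebraMap _ L
  have hu : IsUnit (i (str R M r)) := IsLocalization.Away.algebraMap_isUnit (str R M r)
  let σ : R' →+* L := IsLocalization.Away.lift r (g := i.comp (str R M)) hu
  have hσ : ∀ a, σ (φ a) = i (str R M a) := fun a => IsLocalization.Away.lift_eq r hu a
  letI : Algebra R' L := σ.toAlgebra
  have hRL : ∀ a, algebraMap R L a = i (str R M a) := fun a =>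
    IsScalarTower.algebraMap_apply R (SymmetricAlgebra R M) L a
  haveI : IsScalarTower R R' L := IsScalarTower.of_algebraMap_eq fun a => (hRL a).trans (hσ a).symm
  let fl : M →ₗ[R] M' :=
    { toFun := f, map_add' := f.map_add, map_smul' := fun a x => by
        show f (a • x) = φ a • f x
        exact map_smulₛₗ f a x }
  have hunit : ∀ (N : Type u) [AddCommGroup N] [Module R N] [Module R' N] [IsScalarTower R R' N],
      IsUnit (algebraMap R (Module.End R N) r) := fun N _ _ _ _ => by
    have h := (IsLocalization.Away.algebraMap_isUnit (S := R') r).map (Algebra.lsmul R R N (A := R'))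
    rwa [AlgHom.commutes] at h
  haveI : IsLocalizedModule (Submonoid.powers r) fl :=
    IsLocalizedModule.Away.mk_of_addCommGroup (hunit M')
      (fun y => by
        obtain ⟨n, t, ht⟩ := hlift y
        refine ⟨n, t, ?_⟩
        show φ (r ^ n) • y = f t
        rw [map_pow, ht])
      (fun t ht => hsep t ht)
  let g₀ : M →ₗ[R] L :=
    { toFun := fun x => i (gen R M x), map_add' := fun x y => by simp only [map_add],
      map_smul' := fun a x => by
        show i (gen R M (a • x)) = a • i (gen R M x)
        rw [Algebra.smul_def a (i (gen R M x)), hRL]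
        rw [map_smul, Algebra.smul_def, map_mul] }
  have hu' : ∀ x : Submonoid.powers r, IsUnit (algebraMap R (Module.End R L) x) := by
    rintro ⟨_, n, rfl⟩
    simpa using (hunit L).pow n
  let g₁ := IsLocalizedModule.lift (Submonoid.powers r) fl g₀ hu'
  let g₂ := LinearMap.extendScalarsOfIsLocalization (Submonoid.powers r) R' g₁
  obtain ⟨G, hG0, hG1⟩ := exists_ringHom (M := M') σ g₂.toAddMonoidHom fun a x => g₂.map_smul a x
  have hGi : G.comp (symMap f) = i := ringHom_ext
    (fun a => by rw [RingHom.comp_apply, symMap_str, hG0, hσ])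
    (fun x => by
      rw [RingHom.comp_apply, symMap_gen, hG1]
      exact IsLocalizedModule.lift_apply (Submonoid.powers r) fl g₀ hu' x)
  have hus : IsUnit (symMap f (str R M r)) := by
    rw [symMap_str]
    exact (IsLocalization.Away.algebraMap_isUnit (S := R') r).map (str R' M')
  let H : L →+* SymmetricAlgebra R' M' := IsLocalization.Away.lift (str R M r) (g := symMap f) hus
  have hH : ∀ a, H (i a) = symMap f a := fun a => IsLocalization.Away.lift_eq _ hus a
  have h1 : H.comp G = RingHom.id _ := ringHom_ext
    (fun a => by
      have : (H.comp σ) = str R' M' := IsLocalization.ringHom_ext (Submonoid.powers r) (RingHom.ext fun b => by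
        show H (σ (φ b)) = str R' M' (φ b)
        rw [hσ, hH, symMap_str])
      rw [RingHom.comp_apply, hG0]
      exact RingHom.congr_fun this a)
    (fun y => by
      obtain ⟨n, t, ht⟩ := hlift y
      rw [RingHom.comp_apply, RingHom.id_apply]
      refine (((IsLocalization.Away.algebraMap_isUnit (S := R') r).map (str R' M')).pow n).mul_left_cancel ?_
      show str R' M' (φ r) ^ n * H (G (gen R' M' y)) = str R' M' (φ r) ^ n * gen R' M' y
      have e1 : str R' M' (φ r) ^ n * gen R' M' y = symMap f (gen R M t) := by
        rw [symMap_gen, ht, map_smul, Algebra.smul_def, map_pow]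
      have e2 : H (G (str R' M' (φ r))) = str R' M' (φ r) := by rw [hG0, hσ, hH, symMap_str]
      calc _ = H (G (str R' M' (φ r) ^ n * gen R' M' y)) := by rw [map_mul, map_mul, map_pow, map_pow, e2]
        _ = _ := by rw [e1, show G (symMap f (gen R M t)) = i (gen R M t) from RingHom.congr_fun hGi _, hH])
  have h2 : G.comp H = RingHom.id _ := IsLocalization.ringHom_ext (Submonoid.powers (str R M r)) (RingHom.ext fun a => by
    show G (H (i a)) = i a
    rw [hH]
    exact RingHom.congr_fun hGi a)
  exact IsLocalization.isLocalization_of_algEquiv (Submonoid.powers (str R M r))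
    (AlgEquiv.ofRingEquiv (f := RingEquiv.ofRingHom H G h1 h2) fun a => hH a)

end GrothLib.SymAlgX
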