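import Groth.Agent.Lib.RelSpec.OfAffine
import Groth.Agent.Lib.SymAlgX.Affine
import Groth.Agent.Lib.QCoh.Affine
import Groth.Prelude.Def_Coh

/-!
# The symmetric algebra of a quasi-coherent module: existence and values on affine opens
-/

set_option autoImplicit false
set_option backward.isDefEq.respectTransparency false

universe u

open CategoryTheory AlgebraicGeometry TopologicalSpace Limits Opposite
open GrothLib.RelSpec (aff mr mr_smul)

noncomputable section

namespace GrothLib.SymAlgX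

variable {S : Scheme.{u}} (E : S.Modules)

/-- Restriction of sections as a semilinear map. -/
def resSL {U V : S.Opens} (h : V ≤ U) : Γ(E, U) →ₛₗ[(S.presheaf.map (homOfLE h).op).hom] Γ(E, V) :=
  { toFun := mr E h, map_add' := (mr E h).map_add, map_smul' := fun r x => mr_smul E h r x }

/-- The map of symmetric algebras of a restriction. -/
def resSym {U V : S.Opens} (h : V ≤ U) :
    SymmetricAlgebra Γ(S, U) Γ(E, U) →+* SymmetricAlgebra Γ(S, V) Γ(E, V) := symMap (resSL E h)

theorem resSym_self (U : S.Opens) : resSym E (le_refl U) = RingHom.id _ := ringHom_ext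
  (fun r => by
    rw [resSym, symMap_str, RingHom.id_apply]
    refine congrArg _ ?_
    show (S.presheaf.map (𝟙 (op U))).hom r = r
    rw [S.presheaf.map_id]; rfl)
  (fun x => by
    rw [resSym, symMap_gen, RingHom.id_apply]
    refine congrArg _ ?_
    show (E.presheaf.map (𝟙 (op U))).hom x = x
    rw [E.presheaf.map_id]; rfl)

theorem resSym_comp {U V W : S.Opens} (h : V ≤ U) (h' : W ≤ V) :
    (resSym E h').comp (resSym E h) = resSym E (h'.trans h) := ringHom_ext
  (fun r => by
    rw [RingHom.comp_apply, resSym, resSym, resSym, symMap_str, symMap_str, symMap_str]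
    refine congrArg _ ?_
    rw [← CommRingCat.comp_apply, ← S.presheaf.map_comp]; rfl)
  (fun x => by
    rw [RingHom.comp_apply, resSym, resSym, resSym, symMap_gen, symMap_gen, symMap_gen]
    refine congrArg _ ?_
    show (E.presheaf.map (homOfLE h').op).hom ((E.presheaf.map (homOfLE h).op).hom x) = _
    rw [← ConcreteCategory.comp_apply, ← E.presheaf.map_comp]; rfl)

/-- The symmetric algebras over the affine opens. -/
def symFunctor : S.AffineZariskiSiteᵒᵖ ⥤ CommRingCat.{u} where
  obj U := CommRingCat.of (SymmetricAlgebra Γ(S, U.unop.1) Γ(E, U.unop.1))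
  map {U V} i := CommRingCat.ofHom (resSym E (leOfHom ((aff S).map i.unop)))
  map_id U := CommRingCat.hom_ext (resSym_self E U.unop.1)
  map_comp {U V W} i k := CommRingCat.hom_ext
    (resSym_comp E (leOfHom ((aff S).map i.unop)) (leOfHom ((aff S).map k.unop))).symm

/-- The structure maps over the affine opens. -/
def symStr : (aff S).op ⋙ S.presheaf ⟶ symFunctor E where
  app U := CommRingCat.ofHom (str Γ(S, U.unop.1) Γ(E, U.unop.1))
  naturality U V i := CommRingCat.hom_ext (RingHom.ext fun r =>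
    (symMap_str (resSL E (leOfHom ((aff S).map i.unop))) r).symm)

theorem symStr_coequifibered (hE : Coh.IsQCoh E) : (symStr E).Coequifibered := by
  refine Scheme.AffineZariskiSite.coequifibered_iff_forall_isLocalizationAway.mpr fun U r => ?_
  obtain ⟨hl, hs⟩ := QCoh.smulLift_and_smulSep_of_isAffineOpen (M := E) (hU := U.2) r
  exact isLocalization_symMap (resSL E (S.basicOpen_le r)) r (U.2.isLocalization_basicOpen r) hl hs

/-- `A` has, over every affine open, the symmetric algebra of the sections of `E` as ring of sections. -/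
def IsAffSym (A : _root_.RelSpec.QCAlg S) (j : E ⟶ A.toModule) : Prop :=
  ∀ (U : S.Opens), IsAffineOpen U →
    ∃ e : SymmetricAlgebra Γ(S, U) Γ(E, U) ≃+* A.presheaf.obj (op U),
      (∀ r, e (str Γ(S, U) Γ(E, U) r) = (A.str.app (op U)).hom r) ∧
      ∀ x, e (gen Γ(S, U) Γ(E, U) x) = (show A.presheaf.obj (op U) from j.app U x)

theorem exists_isAffSym (hE : Coh.IsQCoh E) :
    ∃ (A : _root_.RelSpec.QCAlg S) (j : E ⟶ A.toModule), IsAffSym E A j := by
  obtain ⟨A, i, hi⟩ := RelSpec.exists_qcAlg_of_coequifibered (symFunctor E) (symStr E) (symStr_coequifibered E hE)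
  let φ : ∀ U : S.Opens, IsAffineOpen U → (SymmetricAlgebra Γ(S, U) Γ(E, U) →+* A.presheaf.obj (op U)) :=
    fun U hU => (i.hom.app (op ⟨U, hU⟩)).hom
  have hφs : ∀ U hU r, φ U hU (str Γ(S, U) Γ(E, U) r) = (A.str.app (op U)).hom r := fun U hU r =>
    ConcreteCategory.congr_hom (NatTrans.congr_app hi (op ⟨U, hU⟩)) r
  have hnat : ∀ (U V : S.Opens) (hU : IsAffineOpen U) (hV : IsAffineOpen V) (h : V ≤ U) (a),
      φ V hV (resSym E h a) = (A.presheaf.map (homOfLE h).op).hom (φ U hU a) := by
    intro U V hU hV h a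
    choose g g' hgg hpg using fun p : V => exists_basicOpen_le_affine_inter hU hV p.1 ⟨h p.2, p.2⟩
    refine TopCat.Sheaf.eq_of_locally_eq' (⟨A.presheaf, A.isSheaf⟩ : TopCat.Sheaf CommRingCat.{u} S.carrier)
      (fun p : V => S.basicOpen (g' p)) V (fun p => homOfLE (S.basicOpen_le _))
      (fun p hp => Opens.mem_iSup.mpr ⟨⟨p, hp⟩, hgg ⟨p, hp⟩ ▸ hpg ⟨p, hp⟩⟩) _ _ fun p => ?_
    let W := S.basicOpen (g' p)
    have hW : IsAffineOpen W := hV.basicOpen _
    have hWU : W ≤ U := (S.basicOpen_le _).trans h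
    let Uz : S.AffineZariskiSite := ⟨U, hU⟩
    let Vz : S.AffineZariskiSite := ⟨V, hV⟩
    let Wz : S.AffineZariskiSite := ⟨W, hW⟩
    have hWU' : Wz ≤ Uz := ⟨g p, hgg p⟩
    have hWV' : Wz ≤ Vz := ⟨g' p, rfl⟩
    have n1 := ConcreteCategory.congr_hom (i.hom.naturality (homOfLE hWU').op) a
    have n2 := ConcreteCategory.congr_hom (i.hom.naturality (homOfLE hWV').op) (resSym E h a)
    show (A.presheaf.map (homOfLE (S.basicOpen_le (g' p))).op).hom (φ V hV (resSym E h a)) =
      (A.presheaf.map (homOfLE (S.basicOpen_le (g' p))).op).hom ((A.presheaf.map (homOfLE h).op).hom (φ U hU a))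
    refine n2.symm.trans ?_
    show φ W hW (resSym E (S.basicOpen_le (g' p)) (resSym E h a)) = _
    refine (congrArg (φ W hW) (RingHom.congr_fun (resSym_comp E h (S.basicOpen_le (g' p))) a)).trans ?_
    refine n1.trans ?_
    show (A.presheaf.map (homOfLE hWU).op).hom (φ U hU a) = _
    rw [← CommRingCat.comp_apply, ← A.presheaf.map_comp]
    rfl
  obtain ⟨j, hj⟩ := RelSpec.exists_modHom (M := E) (N := A.toModule)
    (fun U hU => (φ U hU).toAddMonoidHom.comp (gen Γ(S, U) Γ(E, U)).toAddMonoidHom)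
    (fun U hU r x => by
      show φ U hU (gen Γ(S, U) Γ(E, U) (r • x)) = (A.str.app (op U)).hom r * φ U hU (gen Γ(S, U) Γ(E, U) x)
      rw [map_smul, Algebra.smul_def, map_mul, hφs])
    (fun U V hU hV h x => by
      show φ V hV (gen Γ(S, V) Γ(E, V) (mr E h x)) =
        (A.presheaf.map (homOfLE h).op).hom (φ U hU (gen Γ(S, U) Γ(E, U) x))
      rw [← hnat U V hU hV h, resSym, symMap_gen]
      rfl)
  refine ⟨A, j, fun U hU => ⟨(i.app (op ⟨U, hU⟩)).commRingCatIsoToRingEquiv, hφs U hU, fun x => (hj U hU x).symm⟩⟩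

variable {E}

theorem isSymAlg_of_isAffSym {A : _root_.RelSpec.QCAlg S} {j : E ⟶ A.toModule} (h : IsAffSym E A j) :
    _root_.RelSpec.IsSymAlg E A j := by
  intro B φ
  choose e hes hej using h
  choose F hFs hFg using fun (U : S.Opens) => exists_ringHom (R := Γ(S, U)) (M := Γ(E, U))
    (B := B.presheaf.obj (op U)) (B.str.app (op U)).hom
    ({ toFun := fun x => φ.app U x, map_zero' := map_zero _, map_add' := map_add _ } :
      Γ(E, U) →+ B.presheaf.obj (op U))
    (fun r x => Scheme.Modules.Hom.app_smul φ r x)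
  let ψ : ∀ U, IsAffineOpen U → (A.presheaf.obj (op U) →+* B.presheaf.obj (op U)) :=
    fun U hU => (F U).comp (e U hU).symm.toRingHom
  have hψg : ∀ (U : S.Opens) (hU : IsAffineOpen U) (x : Γ(E, U)),
      ψ U hU (j.app U x) = (show B.presheaf.obj (op U) from φ.app U x) := fun U hU x => by
    show F U ((e U hU).symm (show A.presheaf.obj (op U) from j.app U x)) = _
    rw [← hej U hU, RingEquiv.symm_apply_apply, hFg]
    rfl
  have hψs : ∀ (U : S.Opens) (hU : IsAffineOpen U) (r : Γ(S, U)),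
      ψ U hU ((A.str.app (op U)).hom r) = (B.str.app (op U)).hom r := fun U hU r => by
    show F U ((e U hU).symm _) = _
    rw [← hes U hU, RingEquiv.symm_apply_apply, hFs]
  have hnat : ∀ (U V : S.Opens) (hU : IsAffineOpen U) (hV : IsAffineOpen V) (h : V ≤ U) (x : A.presheaf.obj (op U)),
      ψ V hV ((A.presheaf.map (homOfLE h).op).hom x) = (B.presheaf.map (homOfLE h).op).hom (ψ U hU x) := by
    intro U V hU hV h x
    obtain ⟨a, rfl⟩ := (e U hU).surjective x
    refine RingHom.congr_fun (f := ((ψ V hV).comp (A.presheaf.map (homOfLE h).op).hom).comp (e U hU).toRingHom)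
      (g := ((B.presheaf.map (homOfLE h).op).hom.comp (ψ U hU)).comp (e U hU).toRingHom) ?_ a
    refine ringHom_ext (fun r => ?_) fun y => ?_
    · show ψ V hV ((A.presheaf.map (homOfLE h).op).hom (e U hU _)) = (B.presheaf.map (homOfLE h).op).hom (ψ U hU (e U hU _))
      rw [hes, hψs]
      have n1 := ConcreteCategory.congr_hom (A.str.naturality (homOfLE h).op) r
      have n2 := ConcreteCategory.congr_hom (B.str.naturality (homOfLE h).op) r
      exact (congrArg (ψ V hV) n1.symm).trans ((hψs V hV _).trans n2)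
    · show ψ V hV ((A.presheaf.map (homOfLE h).op).hom (e U hU _)) = (B.presheaf.map (homOfLE h).op).hom (ψ U hU (e U hU _))
      rw [hej, hψg]
      have n1 := ConcreteCategory.congr_hom ((Scheme.Modules.toPresheaf S).map j |>.naturality (homOfLE h).op) y
      have n2 := ConcreteCategory.congr_hom ((Scheme.Modules.toPresheaf S).map φ |>.naturality (homOfLE h).op) y
      exact (congrArg (ψ V hV) n1.symm).trans ((hψg V hV _).trans n2)
  obtain ⟨Ψ, hΨ⟩ := RelSpec.exists_algHom ψ hψs hnat
  refine ⟨Ψ, RelSpec.modHom_ext fun U hU x => ?_, fun Ψ' hΨ' => RelSpec.algHom_ext fun U hU => ?_⟩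
  · show (Ψ.hom.app (op U)).hom (show A.presheaf.obj (op U) from j.app U x) = _
    rw [hΨ U hU]
    exact hψg U hU x
  · refine CommRingCat.hom_ext ?_
    rw [hΨ U hU]
    refine RingHom.ext fun y => ?_
    obtain ⟨a, rfl⟩ := (e U hU).surjective y
    refine RingHom.congr_fun (f := (Ψ'.hom.app (op U)).hom.comp (e U hU).toRingHom)
      (g := (ψ U hU).comp (e U hU).toRingHom) ?_ a
    refine ringHom_ext (fun r => ?_) fun x => ?_
    · show (Ψ'.hom.app (op U)).hom (e U hU _) = ψ U hU (e U hU _)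
      rw [hes, hψs]
      exact ConcreteCategory.congr_hom (NatTrans.congr_app Ψ'.comm (op U)) r
    · show (Ψ'.hom.app (op U)).hom (e U hU _) = ψ U hU (e U hU _)
      rw [hej, hψg]
      exact congrArg (fun f : E ⟶ B.toModule => (show B.presheaf.obj (op U) from f.app U x)) hΨ'

theorem isAffSym_of_isSymAlg (hE : Coh.IsQCoh E) {A : _root_.RelSpec.QCAlg S} {j : E ⟶ A.toModule}
    (h : _root_.RelSpec.IsSymAlg E A j) : IsAffSym E A j := by
  obtain ⟨A₀, j₀, h₀⟩ := exists_isAffSym E hE
  have hS := isSymAlg_of_isAffSym h₀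
  obtain ⟨a, ha, -⟩ := hS A j
  obtain ⟨b, hb, -⟩ := h A₀ j₀
  have hc : ∀ {P Q R : _root_.RelSpec.QCAlg S} (f : P ⟶ Q) (g : Q ⟶ R),
      _root_.RelSpec.QCAlg.Hom.toModuleMap (f ≫ g) =
        _root_.RelSpec.QCAlg.Hom.toModuleMap f ≫ _root_.RelSpec.QCAlg.Hom.toModuleMap g :=
    fun f g => RelSpec.modHom_ext fun _ _ _ => rfl
  have hi : ∀ P : _root_.RelSpec.QCAlg S, _root_.RelSpec.QCAlg.Hom.toModuleMap (𝟙 P) = 𝟙 P.toModule :=
    fun P => RelSpec.modHom_ext fun _ _ _ => rfl
  have hab : a ≫ b = 𝟙 A₀ := (hS A₀ j₀).unique (by rw [hc, ← Category.assoc, ha, hb]) (by rw [hi, Category.comp_id])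
  have hba : b ≫ a = 𝟙 A := (h A j).unique (by rw [hc, ← Category.assoc, hb, ha]) (by rw [hi, Category.comp_id])
  intro U hU
  obtain ⟨e, hes, hej⟩ := h₀ U hU
  let w : A₀.presheaf.obj (op U) ≅ A.presheaf.obj (op U) :=
    ⟨a.hom.app (op U), b.hom.app (op U), NatTrans.congr_app (congrArg (·.hom) hab) (op U),
      NatTrans.congr_app (congrArg (·.hom) hba) (op U)⟩
  refine ⟨e.trans w.commRingCatIsoToRingEquiv, fun r => ?_, fun x => ?_⟩
  · show (a.hom.app (op U)).hom (e _) = _
    rw [hes]
    exact ConcreteCategory.congr_hom (NatTrans.congr_app a.comm (op U)) r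
  · show (a.hom.app (op U)).hom (e _) = _
    rw [hej]
    exact congrArg (fun f : E ⟶ A.toModule => (show A.presheaf.obj (op U) from f.app U x)) ha

theorem exists_isSymAlg (hE : Coh.IsQCoh E) :
    ∃ (A : _root_.RelSpec.QCAlg S) (j : E ⟶ A.toModule), _root_.RelSpec.IsSymAlg E A j := by
  obtain ⟨A, j, h⟩ := exists_isAffSym E hE
  exact ⟨A, j, isSymAlg_of_isAffSym h⟩

end GrothLib.SymAlgX
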