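import Groth.Agent.Lib.SymAlgX.Glue
import Groth.Prelude.Def_RelProj2
import Mathlib.Algebra.DirectSum.Internal
import Mathlib.Algebra.Polynomial.Basic

/-!
# The grading of a symmetric algebra; existence of the graded symmetric algebra of a quasi-coherent module
-/

set_option autoImplicit false
set_option backward.isDefEq.respectTransparency false

universe u

open CategoryTheory AlgebraicGeometry TopologicalSpace Limits Opposite Polynomial

noncomputable section

namespace GrothLib.SymAlgX

section affine

variable {R R' : Type u} [CommRing R] [CommRing R'] {M M' : Type u} [AddCommGroup M] [AddCommGroup M']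
  [Module R M] [Module R' M']

variable (R M) in
theorem exists_degMap : ∃ F : SymmetricAlgebra R M →+* (SymmetricAlgebra R M)[X],
    (∀ r, F (str R M r) = C (str R M r)) ∧ ∀ x, F (gen R M x) = C (gen R M x) * X :=
  exists_ringHom ((C : SymmetricAlgebra R M →+* (SymmetricAlgebra R M)[X]).comp (str R M))
    ({ toFun := fun x => C (gen R M x) * X
       map_zero' := by rw [map_zero, map_zero, zero_mul]
       map_add' := fun a b => by rw [map_add, map_add, add_mul] } : M →+ (SymmetricAlgebra R M)[X])
    (fun r x => by
      show C (gen R M (r • x)) * X = C (str R M r) * (C (gen R M x) * X)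
      rw [map_smul, Algebra.smul_def, map_mul, mul_assoc])

variable (R M) in
/-- The ring map multiplying generators by the variable. -/
def degMap : SymmetricAlgebra R M →+* (SymmetricAlgebra R M)[X] := (exists_degMap R M).choose

theorem degMap_str (r : R) : degMap R M (str R M r) = C (str R M r) := (exists_degMap R M).choose_spec.1 r

theorem degMap_gen (x : M) : degMap R M (gen R M x) = C (gen R M x) * X := (exists_degMap R M).choose_spec.2 x

theorem eval_one_degMap (a : SymmetricAlgebra R M) : (degMap R M a).eval 1 = a := by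
  refine RingHom.congr_fun (f := (evalRingHom 1).comp (degMap R M)) (g := RingHom.id _)
    (ringHom_ext (fun r => ?_) fun x => ?_) a
  · simp [degMap_str]
  · simp [degMap_gen]

theorem map_degMap (a : SymmetricAlgebra R M) :
    (degMap R M a).map (degMap R M) = (degMap R M a).eval₂ (C.comp C) (C X * X) := by
  have h : (mapRingHom (degMap R M)).comp (degMap R M) =
      (eval₂RingHom ((C : (SymmetricAlgebra R M)[X] →+* (SymmetricAlgebra R M)[X][X]).comp C)
        (C (X : (SymmetricAlgebra R M)[X]) * (X : (SymmetricAlgebra R M)[X][X]))).comp (degMap R M) := by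
    refine RingHom.ext fun b => ?_
    induction b using SymmetricAlgebra.induction with
    | algebraMap r => simp [show algebraMap R (SymmetricAlgebra R M) r = str R M r from rfl, degMap_str]
    | ι x => simp [show SymmetricAlgebra.ι R M x = gen R M x from rfl, degMap_gen, mul_assoc]
    | mul c d hc hd => rw [map_mul, map_mul, hc, hd]
    | add c d hc hd => rw [map_add, map_add, hc, hd]
  exact RingHom.congr_fun h a

theorem coeff_CC_mul {B : Type u} [CommRing B] (c : B) (b n : ℕ) :
    (C (C c : B[X]) * (C (X : B[X]) * (X : B[X][X])) ^ b).coeff n = if n = b then monomial b c else 0 := by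
  rw [mul_pow, ← map_pow, ← mul_assoc, ← map_mul, coeff_C_mul_X_pow, C_mul_X_pow_eq_monomial]

theorem degMap_coeff (a : SymmetricAlgebra R M) (n : ℕ) :
    degMap R M ((degMap R M a).coeff n) = monomial n ((degMap R M a).coeff n) := by
  have h := congrArg (fun P => coeff P n) (map_degMap a)
  simp only [coeff_map] at h
  rw [h, eval₂_eq_sum, sum_def, finset_sum_coeff]
  rw [Finset.sum_eq_single n]
  · exact (coeff_CC_mul _ n n).trans (if_pos rfl)
  · exact fun b _ hb => (coeff_CC_mul _ b n).trans (if_neg (Ne.symm hb))
  · intro hn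
    simp [notMem_support_iff.mp hn]

variable (R M) in
/-- The homogeneous parts of a symmetric algebra. -/
def symDeg (n : ℕ) : AddSubgroup (SymmetricAlgebra R M) where
  carrier := {a | degMap R M a = monomial n a}
  add_mem' {a b} ha hb := by simp only [Set.mem_setOf_eq, map_add] at *; rw [ha, hb]
  zero_mem' := by simp
  neg_mem' {a} ha := by simp only [Set.mem_setOf_eq, map_neg] at *; rw [ha]

theorem mem_symDeg {n : ℕ} {a : SymmetricAlgebra R M} : a ∈ symDeg R M n ↔ degMap R M a = monomial n a := Iff.rfl

theorem str_mem_symDeg (r : R) : str R M r ∈ symDeg R M 0 := by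
  rw [mem_symDeg, degMap_str, monomial_zero_left]

theorem gen_mem_symDeg (x : M) : gen R M x ∈ symDeg R M 1 := by
  rw [mem_symDeg, degMap_gen, ← C_mul_X_pow_eq_monomial, pow_one]

theorem symDeg_gradedMonoid : SetLike.GradedMonoid (symDeg R M) where
  one_mem := by rw [mem_symDeg, map_one, monomial_zero_one]
  mul_mem i j a b ha hb := by
    rw [mem_symDeg] at *
    rw [map_mul, ha, hb, monomial_mul_monomial]

theorem isInternal_symDeg : DirectSum.IsInternal (symDeg R M) := by
  classical
  refine ⟨fun a b hab => ?_, fun a => ?_⟩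
  · refine DFinsupp.ext fun n => Subtype.ext ?_
    have key : ∀ c : DirectSum ℕ fun i => symDeg R M i,
        (degMap R M (DirectSum.coeAddMonoidHom (symDeg R M) c)).coeff n = (c n : SymmetricAlgebra R M) := by
      intro c
      induction c using DirectSum.induction_on with
      | zero => simp
      | of i x =>
        rw [DirectSum.coeAddMonoidHom_of, mem_symDeg.mp x.2, coeff_monomial]
        rcases eq_or_ne i n with rfl | hne
        · rw [if_pos rfl, DirectSum.of_eq_same]
        · rw [if_neg hne, DirectSum.of_eq_of_ne _ _ _ hne.symm]; rfl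
      | add c d hc hd =>
        rw [map_add, map_add, coeff_add, hc, hd]
        rfl
    rw [← key a, ← key b, hab]
  · refine ⟨∑ i ∈ (degMap R M a).support,
      DirectSum.of (fun i => symDeg R M i) i ⟨(degMap R M a).coeff i, degMap_coeff a i⟩, ?_⟩
    rw [map_sum]
    simp only [DirectSum.coeAddMonoidHom_of]
    refine Eq.trans ?_ (eval_one_degMap a)
    rw [eval_eq_sum, sum_def]
    simp

theorem symMap_mem_symDeg {φ : R →+* R'} (f : M →ₛₗ[φ] M') {n : ℕ} {a : SymmetricAlgebra R M}
    (ha : a ∈ symDeg R M n) : symMap f a ∈ symDeg R' M' n := by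
  rw [mem_symDeg]
  have h : (degMap R' M').comp (symMap f) = (mapRingHom (symMap f)).comp (degMap R M) :=
    ringHom_ext (fun r => by simp [degMap_str, symMap_str]) fun x => by simp [degMap_gen, symMap_gen]
  have h2 := RingHom.congr_fun h a
  simp only [RingHom.comp_apply] at h2
  rw [h2, mem_symDeg.mp ha]
  simp

end affine

variable {S : Scheme.{u}} {E : S.Modules}

theorem exists_isGrSymAlg (hE : Coh.IsQCoh E) :
    ∃ (𝒮 : RelProj.QCGrAlg S) (j : E ⟶ 𝒮.toModule), RelProj.IsGrSymAlg E 𝒮 j := by
  obtain ⟨A, j, h⟩ := exists_isAffSym E hE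
  choose e hes hej using h
  let deg : ∀ (U : S.Opens), IsAffineOpen U → ℕ → AddSubgroup (A.presheaf.obj (op U)) := fun U hU n =>
    (symDeg Γ(S, U) Γ(E, U) n).map (e U hU).toRingHom.toAddMonoidHom
  have hmem : ∀ {U : S.Opens} (hU : IsAffineOpen U) {n : ℕ} {a}, a ∈ symDeg Γ(S, U) Γ(E, U) n →
      e U hU a ∈ deg U hU n := fun hU _ a ha => ⟨a, ha, rfl⟩
  let grade : ∀ (U : S.Opens) (hU : IsAffineOpen U), GradedRing (deg U hU) := fun U hU =>
    letI gm : SetLike.GradedMonoid (deg U hU) :=
      { one_mem := ⟨1, symDeg_gradedMonoid.one_mem, map_one (e U hU)⟩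
        mul_mem := by
          rintro i k _ _ ⟨a, ha, rfl⟩ ⟨b, hb, rfl⟩
          exact ⟨a * b, symDeg_gradedMonoid.mul_mem ha hb, map_mul (e U hU) _ _⟩ }
    letI := (show DirectSum.IsInternal (deg U hU) by
      classical
      let ε : (DirectSum ℕ fun i => symDeg Γ(S, U) Γ(E, U) i) →+ DirectSum ℕ fun i => deg U hU i :=
        DirectSum.map fun i => (AddMonoidHom.mk' (fun a => ⟨e U hU a.1, hmem hU a.2⟩)
          (fun a b => Subtype.ext (map_add _ _ _)))
      have hε : Function.Bijective ε := by
        refine ⟨(DirectSum.map_injective _).mpr fun i a b hab => Subtype.ext ((e U hU).injective (congrArg Subtype.val hab)),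
          (DirectSum.map_surjective _).mpr fun i => ?_⟩
        rintro ⟨_, a, ha, rfl⟩
        exact ⟨⟨a, ha⟩, rfl⟩
      have hcomp : (DirectSum.coeAddMonoidHom (deg U hU)).comp ε =
          (e U hU).toRingHom.toAddMonoidHom.comp (DirectSum.coeAddMonoidHom (symDeg Γ(S, U) Γ(E, U))) :=
        DirectSum.addHom_ext fun i a => by simp [ε]
      have hb : Function.Bijective ((DirectSum.coeAddMonoidHom (deg U hU)) ∘ ε) := by
        rw [← AddMonoidHom.coe_comp, hcomp]
        exact (e U hU).bijective.comp isInternal_symDeg
      exact (Function.Bijective.of_comp_iff _ hε).mp hb).chooseDecomposition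
    { gm, ‹DirectSum.Decomposition (deg U hU)› with }
  let 𝒮 : RelProj.QCGrAlg S :=
    { A with
      deg := deg
      graded := grade
      map_mem := by
        rintro U V hU hV i d _ ⟨a, ha, rfl⟩
        refine ⟨resSym E i a, symMap_mem_symDeg _ ha, ?_⟩
        refine RingHom.congr_fun (f := (e V hV).toRingHom.comp (resSym E i))
          (g := (A.presheaf.map (homOfLE i).op).hom.comp (e U hU).toRingHom) (ringHom_ext (fun r => ?_) fun x => ?_) a
        · show e V hV (resSym E i (str _ _ r)) = (A.presheaf.map (homOfLE i).op).hom (e U hU (str _ _ r))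
          rw [resSym, symMap_str, hes, hes]
          exact ConcreteCategory.congr_hom (A.str.naturality (homOfLE i).op) r
        · show e V hV (resSym E i (gen _ _ x)) = (A.presheaf.map (homOfLE i).op).hom (e U hU (gen _ _ x))
          rw [resSym, symMap_gen, hej, hej]
          exact ConcreteCategory.congr_hom ((Scheme.Modules.toPresheaf S).map j |>.naturality (homOfLE i).op) x
      str_mem := fun U hU r => ⟨str _ _ r, str_mem_symDeg r, hes U hU r⟩ }
  refine ⟨𝒮, j, isSymAlg_of_isAffSym (fun U hU => ⟨e U hU, hes U hU, hej U hU⟩), fun U hU x => ?_⟩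
  exact ⟨gen _ _ x, gen_mem_symDeg x, hej U hU x⟩

end GrothLib.SymAlgX
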